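import Mathlib
import Cfsg.Prelude.Def_LocalEven
import Cfsg.Agent.Lib.Fitting.Basic

/-!
# `p`-reduced normal subgroups
-/

namespace CfsgLib.PReduced

set_option autoImplicit false
set_option linter.style.haveILetI false

variable {L : Type*} [Group L] {p : ℕ}

/-- A normal subgroup which is a `p`-group modulo `C(V)` centralizes a `p`-reduced `V`. -/
theorem le_centralizer {V : Subgroup L} (hV : Cfsg.IsPReducedNormal p V) {D : Subgroup L}
    (hD : D.Normal) (hp : ∀ d ∈ D, ∃ k : ℕ, d ^ p ^ k ∈ Subgroup.centralizer (V : Set L)) :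
    D ≤ Subgroup.centralizer (V : Set L) := by
  obtain ⟨-, -, hC, hcore⟩ := hV
  haveI := hC
  set q := QuotientGroup.mk' (Subgroup.centralizer (V : Set L))
  have h1 : D.map q ≤ ⊥ := by
    rw [← hcore]
    refine CfsgLib.Fitting.le_pCore (hD.map q (QuotientGroup.mk'_surjective _)) ?_
    rintro ⟨_, d, hd, rfl⟩
    obtain ⟨k, hk⟩ := hp d hd
    refine ⟨k, Subtype.ext ?_⟩
    change q d ^ p ^ k = 1
    rw [← map_pow]
    exact (QuotientGroup.eq_one_iff _).mpr hk
  rw [le_bot_iff, Subgroup.map_eq_bot_iff, QuotientGroup.ker_mk'] at h1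
  exact h1

/-- A normal `p`-subgroup centralizes every `p`-reduced normal subgroup. -/
theorem le_centralizer_of_isPGroup {V : Subgroup L} (hV : Cfsg.IsPReducedNormal p V)
    {D : Subgroup L} (hD : D.Normal) (hp : IsPGroup p D) :
    D ≤ Subgroup.centralizer (V : Set L) :=
  le_centralizer hV hD fun d hd => by
    obtain ⟨k, hk⟩ := hp ⟨d, hd⟩
    have e : d ^ p ^ k = 1 := by simpa using congrArg Subtype.val hk
    exact ⟨k, e ▸ one_mem _⟩

/-- The criterion for the normal closure of `W ≤ C(O_p(L))` to be `p`-reduced. -/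
theorem isPReducedNormal_normalClosure [Finite L] [Fact p.Prime]
    (hchar : Subgroup.centralizer (Cfsg.pCore p L : Set L) ≤ Cfsg.pCore p L)
    (T : Sylow p L) (W : Subgroup L) (hW : W ≤ Subgroup.centralizer (Cfsg.pCore p L : Set L))
    (hexp : ∀ w ∈ W, w ^ p = 1)
    (h : ∀ D : Subgroup L, D.Normal → (∀ d ∈ D, ∃ k : ℕ, d ^ p ^ k ∈
      Subgroup.centralizer ((Subgroup.normalClosure (W : Set L) : Subgroup L) : Set L)) →
      (T : Subgroup L) ⊓ D ≤ Subgroup.centralizer (W : Set L)) :
    Cfsg.IsPReducedNormal p (Subgroup.normalClosure (W : Set L)) := by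
  set V := Subgroup.normalClosure (W : Set L) with hVdef
  haveI hcore := CfsgLib.Fitting.pCore_normal (G := L) p
  haveI hVn : V.Normal := by rw [hVdef]; infer_instance
  have hVc : V ≤ Subgroup.centralizer (Cfsg.pCore p L : Set L) := Subgroup.normalClosure_le_normal hW
  have hcomm : ∀ a ∈ V, ∀ b ∈ V, a * b = b * a := fun a ha b hb =>
    Subgroup.mem_centralizer_iff.mp (hVc hb) a (hchar (hVc ha))
  have hVexp : ∀ a ∈ V, a ^ p = 1 := by
    intro a ha
    have : a ∈ Subgroup.closure (Group.conjugatesOfSet (W : Set L)) := ha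
    induction this using Subgroup.closure_induction with
    | mem b hb =>
      obtain ⟨w, hw, hwb⟩ := Group.mem_conjugatesOfSet_iff.mp hb
      obtain ⟨c, rfl⟩ := isConj_iff.mp hwb
      rw [conj_pow, hexp w hw, mul_one, mul_inv_cancel]
    | one => exact one_pow p
    | mul b c hb hc ihb ihc =>
      rw [(show Commute b c from hcomm b hb c hc).mul_pow, ihb hb, ihc hc, one_mul]
    | inv b hb ihb => rw [inv_pow, ihb hb, inv_one]
  haveI hCn : (Subgroup.centralizer (V : Set L)).Normal := inferInstance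
  refine ⟨hVn, ⟨⟨⟨fun a b => Subtype.ext (hcomm a a.2 b b.2)⟩⟩, hVexp⟩, hCn, ?_⟩
  set q := QuotientGroup.mk' (Subgroup.centralizer (V : Set L)) with hq
  set Qb := Cfsg.pCore p (L ⧸ Subgroup.centralizer (V : Set L)) with hQb
  haveI := CfsgLib.Fitting.pCore_normal (G := L ⧸ Subgroup.centralizer (V : Set L)) p
  set D := Qb.comap q with hD
  have hDp : ∀ d ∈ D, ∃ k : ℕ, d ^ p ^ k ∈ Subgroup.centralizer (V : Set L) := by
    intro d hd
    obtain ⟨k, hk⟩ := CfsgLib.Fitting.pCore_isPGroup p ⟨q d, hd⟩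
    refine ⟨k, (QuotientGroup.eq_one_iff _).mp ?_⟩
    have e : q d ^ p ^ k = 1 := by simpa using congrArg Subtype.val hk
    rw [← map_pow] at e
    exact e
  have hDn : D.Normal := by rw [hD]; exact Subgroup.Normal.comap inferInstance q
  haveI := hDn
  have hTD := h D hDn hDp
  -- every element of `O_p(L / C(V))` comes from `T ⊓ D`
  have hsub : Qb ≤ ((T : Subgroup L) ⊓ D).map q := by
    intro x hx
    obtain ⟨t, ht, rfl⟩ :=
      IsPGroup.le_sylow_of_normal (CfsgLib.Fitting.pCore_isPGroup p)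
        (T.mapSurjective (f := q) (QuotientGroup.mk'_surjective _)) hx
    exact ⟨t, ⟨ht, hx⟩, rfl⟩
  have hDW : D ≤ Subgroup.centralizer (W : Set L) := by
    intro d hd
    obtain ⟨t, ht, e⟩ := hsub (show q d ∈ Qb from hd)
    have h1 : t⁻¹ * d ∈ Subgroup.centralizer (V : Set L) := QuotientGroup.eq.mp e
    have := Subgroup.mul_mem _ (hTD ht)
      (Subgroup.centralizer_le (show (W : Set L) ⊆ V from Subgroup.subset_normalClosure) h1)
    simpa using this
  have hDV : D ≤ Subgroup.centralizer (V : Set L) := by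
    rw [Subgroup.le_centralizer_iff]
    exact Subgroup.normalClosure_le_normal (Subgroup.le_centralizer_iff.mp hDW)
  rw [eq_bot_iff]
  intro x hx
  obtain ⟨d, rfl⟩ := QuotientGroup.mk'_surjective _ x
  exact Subgroup.mem_bot.mpr ((QuotientGroup.eq_one_iff d).mpr (hDV hx))

end CfsgLib.PReduced
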