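import Mathlib
import Cfsg.Prelude.Def_LocalStructure
import Cfsg.Agent.Lib.PReduced.Basic
import Cfsg.Agent.Lib.Fitting.Basic

/-!
# The largest `p`-reduced normal subgroup, inside the group and in an ambient group
-/

namespace CfsgLib.PReduced

set_option autoImplicit false
set_option linter.style.haveILetI false
set_option linter.unusedSectionVars false

variable {L : Type*} [Group L] {p : ℕ}

/-- `p`-reducedness, tested on normal subgroups which are `p`-groups modulo the centralizer. -/
theorem isPReducedNormal_of_forall {V : Subgroup L} (hV : V.Normal)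
    (hel : Cfsg.IsElementaryAbelian p V)
    (h : ∀ D : Subgroup L, D.Normal → (∀ d ∈ D, ∃ k : ℕ, d ^ p ^ k ∈ Subgroup.centralizer (V : Set L)) →
      D ≤ Subgroup.centralizer (V : Set L)) :
    Cfsg.IsPReducedNormal p V := by
  haveI := hV
  haveI hCn : (Subgroup.centralizer (V : Set L)).Normal := inferInstance
  refine ⟨hV, hel, hCn, ?_⟩
  haveI := CfsgLib.Fitting.pCore_normal (G := L ⧸ Subgroup.centralizer (V : Set L)) p
  set q := QuotientGroup.mk' (Subgroup.centralizer (V : Set L))
  have hD := h ((Cfsg.pCore p _).comap q) (Subgroup.Normal.comap inferInstance q) fun d hd => by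
    obtain ⟨k, hk⟩ := CfsgLib.Fitting.pCore_isPGroup p ⟨q d, hd⟩
    refine ⟨k, (QuotientGroup.eq_one_iff _).mp ?_⟩
    have e : q d ^ p ^ k = 1 := by simpa using congrArg Subtype.val hk
    rw [← map_pow] at e
    exact e
  rw [eq_bot_iff]
  intro x hx
  obtain ⟨d, rfl⟩ := QuotientGroup.mk'_surjective _ x
  exact Subgroup.mem_bot.mpr ((QuotientGroup.eq_one_iff d).mpr (hD hx))

theorem isPReducedNormal_bot : Cfsg.IsPReducedNormal p (⊥ : Subgroup L) := by
  refine isPReducedNormal_of_forall inferInstance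
    ⟨⟨⟨fun a b => Subsingleton.elim _ _⟩⟩,
      fun a ha => by rw [Subgroup.mem_bot.mp ha, one_pow]⟩ fun D _ _ d _ => ?_
  exact Subgroup.mem_centralizer_iff.mpr fun y hy => by
    rw [Subgroup.mem_bot.mp hy, one_mul, mul_one]

theorem isPGroup_of_elementary {V : Subgroup L} (h : Cfsg.IsElementaryAbelian p V) : IsPGroup p V :=
  fun v => ⟨1, Subtype.ext (by simpa using h.2 v v.2)⟩

theorem isPReducedNormal_sup {V W : Subgroup L} (hV : Cfsg.IsPReducedNormal p V)
    (hW : Cfsg.IsPReducedNormal p W) : Cfsg.IsPReducedNormal p (V ⊔ W) := by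
  have hVW : V ≤ Subgroup.centralizer (W : Set L) :=
    le_centralizer_of_isPGroup hW hV.1 (isPGroup_of_elementary hV.2.1)
  haveI := hV.1
  haveI := hW.1
  have hcV : ∀ a ∈ V, ∀ b ∈ V, Commute a b := fun a ha b hb => by
    haveI := hV.2.1.1
    exact congrArg Subtype.val (mul_comm' (⟨a, ha⟩ : V) ⟨b, hb⟩)
  have hcW : ∀ a ∈ W, ∀ b ∈ W, Commute a b := fun a ha b hb => by
    haveI := hW.2.1.1
    exact congrArg Subtype.val (mul_comm' (⟨a, ha⟩ : W) ⟨b, hb⟩)
  have hc : ∀ a ∈ V, ∀ b ∈ W, Commute a b := fun a ha b hb =>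
    (Subgroup.mem_centralizer_iff.mp (hVW ha) b hb).symm
  refine isPReducedNormal_of_forall inferInstance ⟨⟨⟨?_⟩⟩, ?_⟩ ?_
  · rintro ⟨x, hx⟩ ⟨y, hy⟩
    obtain ⟨a, ha, b, hb, rfl⟩ := Subgroup.mem_sup_of_normal_left.mp hx
    obtain ⟨c, hcm, d, hd, rfl⟩ := Subgroup.mem_sup_of_normal_left.mp hy
    exact Subtype.ext (((hcV a ha c hcm).mul_right (hc a ha d hd)).mul_left
      ((hc c hcm b hb).symm.mul_right (hcW b hb d hd))).eq
  · intro x hx
    obtain ⟨a, ha, b, hb, rfl⟩ := Subgroup.mem_sup_of_normal_left.mp hx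
    rw [(hc a ha b hb).mul_pow, hV.2.1.2 a ha, hW.2.1.2 b hb, one_mul]
  · intro D hD hDp
    have hsplit : ∀ U : Subgroup L, U ≤ V ⊔ W → Subgroup.centralizer ((V ⊔ W : Subgroup L) : Set L) ≤
        Subgroup.centralizer (U : Set L) := fun U hU =>
      Subgroup.centralizer_le (SetLike.coe_subset_coe.mpr hU)
    have h1 := le_centralizer hV hD fun d hd => (hDp d hd).imp fun k hk => hsplit V le_sup_left hk
    have h2 := le_centralizer hW hD fun d hd => (hDp d hd).imp fun k hk => hsplit W le_sup_right hk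
    rw [Subgroup.le_centralizer_iff]
    exact sup_le (Subgroup.le_centralizer_iff.mp h1) (Subgroup.le_centralizer_iff.mp h2)

theorem isPReducedNormal_largest [Finite L] (p : ℕ) :
    Cfsg.IsPReducedNormal p (Cfsg.largestPReduced p L) := by
  classical
  have h : ∀ s : Finset (Subgroup L), (∀ V ∈ s, Cfsg.IsPReducedNormal p V) →
      Cfsg.IsPReducedNormal p (s.sup id) := by
    intro s hs
    induction s using Finset.induction with
    | empty => exact isPReducedNormal_bot
    | insert a t _ ih =>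
      rw [Finset.sup_insert]
      exact isPReducedNormal_sup (hs a (Finset.mem_insert_self a t))
        (ih fun V hV => hs V (Finset.mem_insert_of_mem hV))
  have hfin := Set.toFinite {V : Subgroup L | Cfsg.IsPReducedNormal p V}
  have := h hfin.toFinset fun V hV => hfin.mem_toFinset.mp hV
  rwa [Finset.sup_id_eq_sSup, Set.Finite.coe_toFinset] at this

theorem le_largest {V : Subgroup L} (h : Cfsg.IsPReducedNormal p V) : V ≤ Cfsg.largestPReduced p L :=
  le_sSup h

theorem largest_le_pCore [Finite L] (p : ℕ) : Cfsg.largestPReduced p L ≤ Cfsg.pCore p L :=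
  CfsgLib.Fitting.le_pCore (isPReducedNormal_largest p).1
    (isPGroup_of_elementary (isPReducedNormal_largest p).2.1)

theorem pCore_le_centralizer_largest [Finite L] (p : ℕ) :
    Cfsg.pCore p L ≤ Subgroup.centralizer (Cfsg.largestPReduced p L : Set L) :=
  le_centralizer_of_isPGroup (isPReducedNormal_largest p) (CfsgLib.Fitting.pCore_normal p)
    (CfsgLib.Fitting.pCore_isPGroup p)

/-! ### Inside an ambient group -/

variable {G : Type*} [Group G]

theorem subgroupOf_centralizer {V H : Subgroup G} (hV : V ≤ H) :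
    Subgroup.centralizer ((V.subgroupOf H : Subgroup H) : Set H) =
      (Subgroup.centralizer (V : Set G)).subgroupOf H := by
  ext x
  simp only [Subgroup.mem_subgroupOf, Subgroup.mem_centralizer_iff]
  exact ⟨fun h v hv => congrArg Subtype.val (h ⟨v, hV hv⟩ hv), fun h v hv => Subtype.ext (h v hv)⟩

theorem le_normalizer_pCoreOf (p : ℕ) (H : Subgroup G) :
    H ≤ Subgroup.normalizer (Cfsg.pCoreOf p H : Set G) :=
  (Subgroup.normal_subgroupOf_iff_le_normalizer (Subgroup.map_subtype_le _)).mp (by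
    show (((Cfsg.pCore p H).map H.subtype).comap H.subtype).Normal
    rw [Subgroup.comap_map_eq_self_of_injective H.subtype_injective]
    exact CfsgLib.Fitting.pCore_normal p)

theorem isPGroup_pCoreOf (p : ℕ) (H : Subgroup G) : IsPGroup p (Cfsg.pCoreOf p H) :=
  (CfsgLib.Fitting.pCore_isPGroup p).map _

theorem le_pCoreOf {H N : Subgroup G} (hN : N ≤ H) (hn : H ≤ Subgroup.normalizer (N : Set G))
    (hp : IsPGroup p N) : N ≤ Cfsg.pCoreOf p H := by
  have := Subgroup.map_mono (f := H.subtype) (CfsgLib.Fitting.le_pCore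
    ((Subgroup.normal_subgroupOf_iff_le_normalizer hN).mpr hn)
    (hp.comap_of_injective H.subtype H.subtype_injective))
  rwa [Subgroup.map_subgroupOf_eq_of_le hN] at this

theorem pCoreOf_le_sylow [Finite G] [Fact p.Prime] (T : Sylow p G) {H : Subgroup G}
    (hT : (T : Subgroup G) ≤ H) : Cfsg.pCoreOf p H ≤ T := by
  haveI := CfsgLib.Fitting.pCore_normal (G := H) p
  rintro _ ⟨x, hx, rfl⟩
  exact IsPGroup.le_sylow_of_normal (CfsgLib.Fitting.pCore_isPGroup p) (T.subtype hT) hx

theorem largestOf_le (p : ℕ) (H : Subgroup G) : Cfsg.largestPReducedOf p H ≤ H :=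
  Subgroup.map_subtype_le _

theorem largestOf_le_pCoreOf [Finite G] (p : ℕ) (H : Subgroup G) :
    Cfsg.largestPReducedOf p H ≤ Cfsg.pCoreOf p H :=
  Subgroup.map_mono (largest_le_pCore p)

theorem subgroupOf_largestOf (p : ℕ) (H : Subgroup G) :
    (Cfsg.largestPReducedOf p H).subgroupOf H = Cfsg.largestPReduced p H :=
  Subgroup.comap_map_eq_self_of_injective H.subtype_injective _

theorem le_normalizer_largestOf [Finite G] (p : ℕ) (H : Subgroup G) :
    H ≤ Subgroup.normalizer (Cfsg.largestPReducedOf p H : Set G) :=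
  (Subgroup.normal_subgroupOf_iff_le_normalizer (largestOf_le p H)).mp (by
    rw [subgroupOf_largestOf]; exact (isPReducedNormal_largest p).1)

theorem largestOf_comm [Finite G] (p : ℕ) (H : Subgroup G) :
    ∀ a ∈ Cfsg.largestPReducedOf p H, ∀ b ∈ Cfsg.largestPReducedOf p H, a * b = b * a := by
  rintro _ ⟨a, ha, rfl⟩ _ ⟨b, hb, rfl⟩
  haveI := (isPReducedNormal_largest (L := H) p).2.1.1
  exact congrArg (fun z : Cfsg.largestPReduced p H => ((z : H) : G)) (mul_comm' ⟨a, ha⟩ ⟨b, hb⟩)

theorem largestOf_elementary [Finite G] (p : ℕ) (H : Subgroup G) :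
    Cfsg.IsElementaryAbelian p (Cfsg.largestPReducedOf p H) := by
  refine ⟨⟨⟨fun a b => Subtype.ext (largestOf_comm p H a a.2 b b.2)⟩⟩, ?_⟩
  rintro _ ⟨a, ha, rfl⟩
  rw [← map_pow, (isPReducedNormal_largest (L := H) p).2.1.2 a ha, map_one]

/-- Subgroups normalized by `H` which are `p`-groups modulo `C(Y_H)` centralize `Y_H`. -/
theorem le_centralizer_largestOf [Finite G] {H D : Subgroup G} (hD : D ≤ H)
    (hn : H ≤ Subgroup.normalizer (D : Set G))
    (hp : ∀ d ∈ D, ∃ k : ℕ, d ^ p ^ k ∈ Subgroup.centralizer (Cfsg.largestPReducedOf p H : Set G)) :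
    D ≤ Subgroup.centralizer (Cfsg.largestPReducedOf p H : Set G) := by
  have hc := subgroupOf_centralizer (largestOf_le p H)
  rw [subgroupOf_largestOf] at hc
  have := le_centralizer (isPReducedNormal_largest (L := H) p)
    ((Subgroup.normal_subgroupOf_iff_le_normalizer hD).mpr hn) fun d hd => by
      obtain ⟨k, hk⟩ := hp d hd
      exact ⟨k, by rw [hc]; exact hk⟩
  intro d hd
  have h2 : (⟨d, hD hd⟩ : H) ∈ _ := this (show (⟨d, hD hd⟩ : H) ∈ D.subgroupOf H from hd)
  rw [hc] at h2
  exact h2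

theorem pCoreOf_le_centralizer_largestOf [Finite G] (p : ℕ) (H : Subgroup G) :
    Cfsg.pCoreOf p H ≤ Subgroup.centralizer (Cfsg.largestPReducedOf p H : Set G) :=
  le_centralizer_largestOf (Subgroup.map_subtype_le _) (le_normalizer_pCoreOf p H) fun d hd => by
    obtain ⟨k, hk⟩ := isPGroup_pCoreOf p H ⟨d, hd⟩
    have e : d ^ p ^ k = 1 := by simpa using congrArg Subtype.val hk
    exact ⟨k, e ▸ one_mem _⟩

/-- A criterion for `V ≤ Y_H`. -/
theorem le_largestOf [Finite G] {H V : Subgroup G} (hV : V ≤ H)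
    (hn : H ≤ Subgroup.normalizer (V : Set G)) (hel : Cfsg.IsElementaryAbelian p V)
    (h : ∀ D : Subgroup G, D ≤ H → H ≤ Subgroup.normalizer (D : Set G) →
      (∀ d ∈ D, ∃ k : ℕ, d ^ p ^ k ∈ Subgroup.centralizer (V : Set G)) →
      D ≤ Subgroup.centralizer (V : Set G)) :
    V ≤ Cfsg.largestPReducedOf p H := by
  have hc := subgroupOf_centralizer hV
  have hred : Cfsg.IsPReducedNormal p (V.subgroupOf H) := by
    refine isPReducedNormal_of_forall ((Subgroup.normal_subgroupOf_iff_le_normalizer hV).mpr hn) ⟨⟨⟨?_⟩⟩, ?_⟩ ?_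
    · intro a b
      haveI := hel.1
      have := congrArg Subtype.val (mul_comm' (⟨_, a.2⟩ : V) ⟨_, b.2⟩)
      exact Subtype.ext (Subtype.ext this)
    · intro a ha
      exact Subtype.ext (by simpa using hel.2 _ ha)
    · intro D hD hDp d hd
      rw [hc]
      refine h (D.map H.subtype) (Subgroup.map_subtype_le _)
        ((Subgroup.normal_subgroupOf_iff_le_normalizer (Subgroup.map_subtype_le _)).mp
          (by rw [Subgroup.subgroupOf, Subgroup.comap_map_eq_self_of_injective H.subtype_injective]; exact hD)) ?_ ⟨d, hd, rfl⟩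
      rintro _ ⟨e, he, rfl⟩
      obtain ⟨k, hk⟩ := hDp e he
      rw [hc] at hk
      exact ⟨k, hk⟩
  have := Subgroup.map_mono (f := H.subtype) (le_largest hred)
  rwa [Subgroup.map_subgroupOf_eq_of_le hV] at this

/-- Powers of `d * c` and of `d` agree modulo a subgroup normalized by `d` containing `c`. -/
theorem mul_pow_mul_inv_mem {C : Subgroup G} {d c : G} (hd : d ∈ Subgroup.normalizer (C : Set G))
    (hc : c ∈ C) : ∀ n : ℕ, (d * c) ^ n * (d ^ n)⁻¹ ∈ C := by
  intro n
  induction n with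
  | zero => simpa using C.one_mem
  | succ m ih =>
    have h1 := (Subgroup.mem_normalizer_iff.mp hd _).mp (C.mul_mem hc ih)
    rw [pow_succ', pow_succ', mul_inv_rev]
    simpa [mul_assoc] using h1

theorem exists_mul_of_mem_sup {H N : Subgroup G} (h : H ≤ Subgroup.normalizer (N : Set G)) {x : G}
    (hx : x ∈ H ⊔ N) : ∃ a ∈ H, ∃ b ∈ N, a * b = x := by
  rw [← SetLike.mem_coe, Subgroup.coe_mul_of_left_le_normalizer_right H N h] at hx
  exact hx

end CfsgLib.PReduced
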