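import Cfsg.Agent.S2822
import Cfsg.Agent.S2824
import Cfsg.Agent.Lib.Layer.CharP
import Cfsg.Agent.Lib.Transfer.Sylow

/-!
Parabolic characteristic `p`: monotonicity of `Y_L` and members with the basic property (`𝔐_H`).
-/

set_option autoImplicit false
set_option linter.style.haveILetI false
set_option linter.unusedSectionVars false

namespace CfsgLib.PReduced

open CfsgLib

variable {G : Type*} [Group G] [Finite G] {p : ℕ} [Fact p.Prime]

theorem pCoreOf_ne_bot_iff {X : Subgroup G} : Cfsg.pCore p X ≠ ⊥ ↔ Cfsg.pCoreOf p X ≠ ⊥ :=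
  not_congr (Subgroup.map_eq_bot_iff_of_injective _ X.subtype_injective).symm

theorem cp_of_mem_charP {X : Subgroup G} (h : X ∈ Cfsg.charPSubgroups p G) :
    Subgroup.centralizer (Cfsg.pCore p X : Set X) ≤ Cfsg.pCore p X := by
  intro x hx
  have h1 : (x : G) ∈ Cfsg.pCoreOf p X := h.2 (by
    rintro _ ⟨y, hy, rfl⟩
    exact congrArg Subtype.val (hx y hy))
  obtain ⟨y, hy, hyx⟩ := h1
  exact (Subtype.ext hyx : y = x) ▸ hy

theorem mem_charP_of_sylow (hH : Cfsg.IsOfParabolicCharacteristic p G) (T : Sylow p G) {X : Subgroup G}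
    (hTX : (T : Subgroup G) ≤ X) (hX : Cfsg.pCore p X ≠ ⊥) : X ∈ Cfsg.charPSubgroups p G := by
  refine ⟨hX, ?_⟩
  set A := Cfsg.pCoreOf p X with hA
  set N := Subgroup.normalizer (A : Set G) with hN
  have hXN : X ≤ N := le_normalizer_pCoreOf p X
  have hcp := hH A (isPGroup_pCoreOf p X) (pCoreOf_ne_bot_iff.mp hX) ⟨T, hTX.trans hXN⟩
  have hBT : Cfsg.pCoreOf p N ≤ (T : Subgroup G) := pCoreOf_le_sylow T (hTX.trans hXN)
  have hBA : Cfsg.pCoreOf p N ≤ A :=
    le_pCoreOf (hBT.trans hTX) (hXN.trans (le_normalizer_pCoreOf p N)) (isPGroup_pCoreOf p N)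
  intro c hc
  have hcN : c ∈ N := Subgroup.centralizer_le_normalizer _ hc
  refine hBA ⟨⟨c, hcN⟩, hcp fun z hz => Subtype.ext ?_, rfl⟩
  exact hc (z : G) (hBA ⟨z, hz, rfl⟩)

/-- A criterion for `V ≤ Y_X`, tested on a Sylow subgroup. -/
theorem le_largestOf_of_sylow (T : Sylow p G) {X V : Subgroup G} (hTX : (T : Subgroup G) ≤ X)
    (hX : Subgroup.centralizer (Cfsg.pCore p X : Set X) ≤ Cfsg.pCore p X) (hVX : V ≤ X)
    (hVp : ∀ v ∈ V, v ^ p = 1) (hVC : Cfsg.pCoreOf p X ≤ Subgroup.centralizer (V : Set G))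
    (h : ∀ D : Subgroup G, D ≤ X → X ≤ Subgroup.normalizer (D : Set G) →
      (∀ d ∈ D, ∃ k : ℕ, d ^ p ^ k ∈ Subgroup.centralizer (V : Set G)) →
      (T : Subgroup G) ⊓ D ≤ Subgroup.centralizer (V : Set G)) :
    V ≤ Cfsg.largestPReducedOf p X := by
  let Z1 : Subgroup G :=
    { carrier := {x | x ∈ Cfsg.pCoreOf p X ∧ x ∈ Subgroup.centralizer (Cfsg.pCoreOf p X : Set G) ∧ x ^ p = 1}
      one_mem' := ⟨one_mem _, one_mem _, one_pow p⟩
      inv_mem' := fun h => ⟨inv_mem h.1, inv_mem h.2.1, by rw [inv_pow, h.2.2, inv_one]⟩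
      mul_mem' := fun {a b} ha hb => ⟨mul_mem ha.1 hb.1, mul_mem ha.2.1 hb.2.1, by
        rw [(show Commute a b from hb.2.1 a ha.1).mul_pow, ha.2.2, hb.2.2, one_mul]⟩ }
  have hVZ : V ≤ Z1 := by
    intro y hy
    have hc : y ∈ Subgroup.centralizer (Cfsg.pCoreOf p X : Set G) :=
      fun z hz => (hVC hz y hy).symm
    refine ⟨?_, hc, hVp y hy⟩
    exact ⟨⟨y, hVX hy⟩, hX fun z hz => Subtype.ext (hc (z : G) ⟨z, hz, rfl⟩), rfl⟩
  set U := ⨆ l : X, V.map (MulAut.conj (l : G)).toMonoidHom with hU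
  have hUZ : U ≤ Z1 := by
    refine iSup_le fun l => ?_
    rintro _ ⟨y, hy, rfl⟩
    obtain ⟨h1, h2, h3⟩ := hVZ hy
    have hn := le_normalizer_pCoreOf p X l.2
    refine ⟨(Subgroup.mem_normalizer_iff.mp hn y).mp h1, ?_, ?_⟩
    · exact (Subgroup.mem_normalizer_iff.mp (Coprime.le_normalizer_centralizer le_rfl hn) y).mp h2
    · rw [← map_pow, h3, map_one]
  have hVU : V ≤ U := fun y hy => le_iSup (fun l : X => V.map (MulAut.conj (l : G)).toMonoidHom) 1
    ⟨y, hy, by simp⟩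
  have hXU : X ≤ Subgroup.normalizer (U : Set G) := fun x hx => Subgroup.mem_normalizer_fintype fun u hu => by
    have hle : U ≤ U.comap (MulAut.conj x).toMonoidHom := iSup_le fun j => by
      rw [← Subgroup.map_le_iff_le_comap, Subgroup.map_map]
      refine le_trans (le_of_eq ?_) (le_iSup (fun j : X => V.map (MulAut.conj (j : G)).toMonoidHom) (⟨x, hx⟩ * j))
      refine congrArg (fun φ => Subgroup.map φ V) ?_
      ext w
      simp [mul_assoc]
    exact hle hu
  refine hVU.trans (le_largestOf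
    (hUZ.trans fun x hx => (Subgroup.map_subtype_le _ : Cfsg.pCoreOf p X ≤ X) hx.1) hXU ?_ ?_)
  · refine ⟨⟨⟨fun a b => Subtype.ext ?_⟩⟩, fun a ha => (hUZ ha).2.2⟩
    exact (hUZ b.2).2.1 (a : G) (hUZ a.2).1
  · intro D hDX hXD hDp
    have hTD : (T : Subgroup G) ⊓ D ≤ Subgroup.centralizer (V : Set G) := h D hDX hXD fun d hd =>
      (hDp d hd).imp fun k hk => Subgroup.centralizer_le (SetLike.coe_subset_coe.mpr hVU) hk
    set K := (Subgroup.centralizer (U : Set G)).subgroupOf D with hK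
    haveI hKn : K.Normal := by
      have h1 : D ⊓ Subgroup.centralizer (U : Set G) ≤ D := inf_le_left
      have h2 := (Subgroup.normal_subgroupOf_iff_le_normalizer h1).mpr
        (Coprime.le_normalizer_inf_of_le Subgroup.le_normalizer
          (Coprime.le_normalizer_centralizer (hDX.trans hXU)))
      rwa [Subgroup.inf_subgroupOf_left] at h2
    have hq : IsPGroup p (D ⧸ K) := by
      intro y
      induction y using QuotientGroup.induction_on with
      | H d =>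
        obtain ⟨k, hk⟩ := hDp d d.2
        exact ⟨k, by rw [← QuotientGroup.mk_pow, QuotientGroup.eq_one_iff]; exact hk⟩
    haveI : (D.subgroupOf X).Normal := (Subgroup.normal_subgroupOf_iff_le_normalizer hDX).mpr hXD
    have hidx : ¬ p ∣ ((T : Subgroup G).subgroupOf D).index := by
      have h1 := Transfer.relIndex_dvd_index_of_normal ((T.subtype hTX : Sylow p X) : Subgroup X) (D.subgroupOf X)
      rw [Sylow.coe_subtype, Subgroup.relIndex_subgroupOf hDX] at h1
      exact fun hd => (T.subtype hTX).not_dvd_index (by rw [Sylow.coe_subtype]; exact hd.trans h1)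
    let S : Sylow p D := (T.2.comap_of_injective D.subtype D.subtype_injective).toSylow hidx
    have hsup := Transfer.sylow_sup_eq_top_of_isPGroup_quotient S K hq
    have hDV : D ≤ Subgroup.centralizer (V : Set G) := by
      intro d hd
      have hmem : (⟨d, hd⟩ : D) ∈ (S : Subgroup D) ⊔ K := hsup.ge (Subgroup.mem_top _)
      have hle : (S : Subgroup D) ⊔ K ≤ (Subgroup.centralizer (V : Set G)).subgroupOf D :=
        sup_le (fun w hw => hTD ⟨hw, w.2⟩)
          (Subgroup.comap_mono (Subgroup.centralizer_le (SetLike.coe_subset_coe.mpr hVU)))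
      exact hle hmem
    rw [Subgroup.le_centralizer_iff]
    refine iSup_le fun l => ?_
    rintro _ ⟨y, hy, rfl⟩ d hd
    have h1 : (l : G)⁻¹ * d * l ∈ D := (Subgroup.mem_normalizer_iff''.mp (hXD l.2) d).mp hd
    have h2 : y * ((l : G)⁻¹ * d * l) = (l : G)⁻¹ * d * l * y := hDV h1 y hy
    show d * ((l : G) * y * (l : G)⁻¹) = (l : G) * y * (l : G)⁻¹ * d
    calc d * ((l : G) * y * (l : G)⁻¹) = (l : G) * ((l : G)⁻¹ * d * l * y) * (l : G)⁻¹ := by group
      _ = (l : G) * (y * ((l : G)⁻¹ * d * l)) * (l : G)⁻¹ := by rw [h2]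
      _ = (l : G) * y * (l : G)⁻¹ * d := by group

/-- `Y_M ≤ Y_X` for `T ≤ M ≤ X`. -/
theorem largestOf_mono (T : Sylow p G) {M X : Subgroup G} (hTM : (T : Subgroup G) ≤ M) (hMX : M ≤ X)
    (hX : Subgroup.centralizer (Cfsg.pCore p X : Set X) ≤ Cfsg.pCore p X) :
    Cfsg.largestPReducedOf p M ≤ Cfsg.largestPReducedOf p X := by
  have hAM : Cfsg.pCoreOf p X ≤ Cfsg.pCoreOf p M :=
    le_pCoreOf ((pCoreOf_le_sylow T (hTM.trans hMX)).trans hTM)
      (hMX.trans (le_normalizer_pCoreOf p X)) (isPGroup_pCoreOf p X)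
  refine le_largestOf_of_sylow T (hTM.trans hMX) hX ((largestOf_le p M).trans hMX)
    (fun v hv => (largestOf_elementary p M).2 v hv)
    (hAM.trans (pCoreOf_le_centralizer_largestOf p M)) fun D hDX hXD hDp => ?_
  refine le_trans (le_inf inf_le_right (inf_le_left.trans hTM) : _ ≤ D ⊓ M) ?_
  refine le_centralizer_largestOf inf_le_right
    (Coprime.le_normalizer_inf_of_le (hMX.trans hXD) Subgroup.le_normalizer) fun d hd => hDp d hd.1

theorem largestOf_ne_bot (T : Sylow p G) {L : Subgroup G} (hTL : (T : Subgroup G) ≤ L)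
    (hL1 : Cfsg.pCore p L ≠ ⊥)
    (hL : Subgroup.centralizer (Cfsg.pCore p L : Set L) ≤ Cfsg.pCore p L) :
    Cfsg.largestPReducedOf p L ≠ ⊥ := by
  obtain ⟨z, hzA, hz, hzc⟩ := CharCore.exists_central_orderOf T.2 (pCoreOf_ne_bot_iff.mp hL1)
    (pCoreOf_le_sylow T hTL) (hTL.trans (le_normalizer_pCoreOf p L))
  have hT : (T : Subgroup G) ≤ Subgroup.centralizer (Subgroup.zpowers z : Set G) := by
    intro t ht w hw
    obtain ⟨i, rfl⟩ := Subgroup.mem_zpowers_iff.mp hw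
    exact ((show Commute t z from hzc t ht).zpow_right i).eq.symm
  have h := le_largestOf_of_sylow T hTL hL
    (Subgroup.zpowers_le.mpr ((Subgroup.map_subtype_le _ : Cfsg.pCoreOf p L ≤ L) hzA))
    (fun v hv => orderOf_dvd_iff_pow_eq_one.mp ((orderOf_dvd_of_mem_zpowers hv).trans hz.dvd))
    ((pCoreOf_le_sylow T hTL).trans hT) fun D _ _ _ => inf_le_left.trans hT
  intro e
  rw [e, le_bot_iff, Subgroup.zpowers_eq_bot] at h
  rw [h, orderOf_one] at hz
  exact (Fact.out : p.Prime).ne_one hz.symm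

theorem pCore_ne_bot_of_le (T : Sylow p G) {X Y : Subgroup G} (hTX : (T : Subgroup G) ≤ X)
    (hYT : Y ≤ T) (hXY : X ≤ Subgroup.normalizer (Y : Set G)) (hY : Y ≠ ⊥) :
    Cfsg.pCore p X ≠ ⊥ :=
  pCoreOf_ne_bot_iff.mpr fun e => hY (le_bot_iff.mp
    ((le_pCoreOf (hYT.trans hTX) hXY (T.2.to_le hYT)).trans e.le))

/-- In a group of parabolic characteristic `p` every `L ∈ 𝓛` is dominated by a member of `𝔐`. -/
theorem exists_basic_member (hH : Cfsg.IsOfParabolicCharacteristic p G) (T : Sylow p G) (L : Subgroup G)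
    (hTL : (T : Subgroup G) ≤ L) (hL : L ∈ Cfsg.charPSubgroups p G) :
    ∃ M Ls : Subgroup G, (T : Subgroup G) ≤ M ∧ Cfsg.IsInFrakM p M ∧ (T : Subgroup G) ≤ Ls ∧ Ls ≤ M ∧
      Ls ∈ Cfsg.charPSubgroups p G ∧ Cfsg.largestPReducedOf p L = Cfsg.largestPReducedOf p Ls ∧
      Cfsg.largestPReducedOf p L ≤ Cfsg.largestPReducedOf p M ∧
      L ⊔ Subgroup.centralizer (Cfsg.largestPReducedOf p L : Set G) =
        Ls ⊔ Subgroup.centralizer (Cfsg.largestPReducedOf p L : Set G) := by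
  classical
  haveI := Fintype.ofFinite (Subgroup G)
  set YL := Cfsg.largestPReducedOf p L with hYL
  set C₀ := Subgroup.centralizer (YL : Set G) with hC₀
  have hcL := cp_of_mem_charP hL
  have hYL1 : YL ≠ ⊥ := largestOf_ne_bot T hTL hL.1 hcL
  let 𝒮 := Finset.univ.filter fun X : Subgroup G =>
    (T : Subgroup G) ≤ X ∧ X ∈ Cfsg.charPSubgroups p G ∧ (∀ x ∈ L, ∃ m ∈ X, m⁻¹ * x ∈ C₀) ∧ YL ≤ Cfsg.largestPReducedOf p X
  let wt : Subgroup G → ℕ := fun X => Nat.card (Cfsg.largestPReducedOf p X) * (Nat.card G + 1) +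
    Nat.card ↥(X ⊔ Subgroup.centralizer (Cfsg.largestPReducedOf p X : Set G))
  obtain ⟨X₀, hX₀, hmax⟩ := Finset.exists_max_image 𝒮 wt
    ⟨L, Finset.mem_filter.mpr ⟨Finset.mem_univ _, hTL, hL,
      fun x hx => ⟨x, hx, by rw [inv_mul_cancel]; exact one_mem _⟩, le_rfl⟩⟩
  obtain ⟨-, hTX₀, hX₀c, hLX₀, hYX₀⟩ := Finset.mem_filter.mp hX₀
  set Y := Cfsg.largestPReducedOf p X₀ with hY
  set C := Subgroup.centralizer (Y : Set G) with hC
  have hCC₀ : C ≤ C₀ := Subgroup.centralizer_le (SetLike.coe_subset_coe.mpr hYX₀)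
  have hY1 : Y ≠ ⊥ := fun e => hYL1 (le_bot_iff.mp (e ▸ hYX₀))
  set M₁ := X₀ ⊔ C with hM₁
  have hTM₁ : (T : Subgroup G) ≤ M₁ := hTX₀.trans le_sup_left
  have hM₁Y : M₁ ≤ Subgroup.normalizer (Y : Set G) :=
    sup_le (le_normalizer_largestOf p X₀) (Subgroup.centralizer_le_normalizer _)
  have hYT : Y ≤ (T : Subgroup G) := (largestOf_le_pCoreOf p X₀).trans (pCoreOf_le_sylow T hTX₀)
  have hM₁c : M₁ ∈ Cfsg.charPSubgroups p G :=
    mem_charP_of_sylow hH T hTM₁ (pCore_ne_bot_of_le T hTM₁ hYT hM₁Y hY1)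
  -- weights of dominating members
  have hwt : ∀ X : Subgroup G, (T : Subgroup G) ≤ X → X ∈ Cfsg.charPSubgroups p G → (∀ x ∈ L, ∃ m ∈ X, m⁻¹ * x ∈ C₀) →
      Y ≤ Cfsg.largestPReducedOf p X → Cfsg.largestPReducedOf p X = Y ∧
        Nat.card ↥(X ⊔ C) ≤ Nat.card M₁ := by
    intro X hTX hX hLX hYX
    have h1 : wt X ≤ wt X₀ := hmax X (Finset.mem_filter.mpr
      ⟨Finset.mem_univ _, hTX, hX, hLX, hYX₀.trans hYX⟩)
    simp only [wt] at h1
    rw [← hY, ← hC] at h1
    have e : Cfsg.largestPReducedOf p X = Y := by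
      refine (Subgroup.eq_of_le_of_card_ge hYX ?_).symm
      by_contra hlt
      have h2 : Nat.card ↥(X₀ ⊔ C) ≤ Nat.card G := Subgroup.card_le_card_group _
      have h3 : (Nat.card Y + 1) * (Nat.card G + 1) ≤
          Nat.card (Cfsg.largestPReducedOf p X) * (Nat.card G + 1) :=
        Nat.mul_le_mul_right _ (by omega)
      rw [add_mul, one_mul] at h3
      omega
    refine ⟨e, ?_⟩
    rw [e, ← hC] at h1
    exact Nat.le_of_add_le_add_left h1
  have hYM₁ : Cfsg.largestPReducedOf p M₁ = Y :=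
    (hwt M₁ hTM₁ hM₁c (fun x hx => let ⟨m, hm, hmx⟩ := hLX₀ x hx; ⟨m, Subgroup.mem_sup_left hm, hmx⟩)
      (largestOf_mono T hTX₀ le_sup_left (cp_of_mem_charP hM₁c))).1
  set T₀ := (T : Subgroup G) ⊓ C with hT₀
  -- Frattini in `M₁`
  obtain ⟨hN₁Y, hN₁C⟩ := Cfsg.Agent.S2824.result T M₁ M₁ hTM₁ hTM₁ (cp_of_mem_charP hM₁c)
    (cp_of_mem_charP hM₁c) T₀ (by rw [hYM₁]) rfl _ rfl
  rw [hYM₁, sup_eq_left.mpr le_sup_right] at hN₁C
  set N₁ := M₁ ⊓ Subgroup.normalizer (T₀ : Set G) with hN₁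
  have hTN₁ : (T : Subgroup G) ≤ N₁ := by
    refine le_inf hTM₁ (Coprime.le_normalizer_inf_of_le Subgroup.le_normalizer
      (Coprime.le_normalizer_centralizer (hTM₁.trans hM₁Y)))
  obtain ⟨M, hM, hmin⟩ := Finset.exists_min_image
    (Finset.univ.filter fun X : Subgroup G => (T : Subgroup G) ≤ X ∧ X ≤ N₁ ∧ X ⊔ C = M₁)
    (fun X => Nat.card X) ⟨N₁, Finset.mem_filter.mpr ⟨Finset.mem_univ _, hTN₁, le_rfl, hN₁C.symm⟩⟩
  obtain ⟨-, hTM, hMN₁, hMC⟩ := Finset.mem_filter.mp hM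
  have hMM₁ : M ≤ M₁ := hMN₁.trans inf_le_left
  have hMY : M ≤ Subgroup.normalizer (Y : Set G) := hMM₁.trans hM₁Y
  have hMT₀ : M ≤ Subgroup.normalizer (T₀ : Set G) := hMN₁.trans inf_le_right
  have hMc : M ∈ Cfsg.charPSubgroups p G :=
    mem_charP_of_sylow hH T hTM (pCore_ne_bot_of_le T hTM hYT hMY hY1)
  have hYM : Cfsg.largestPReducedOf p M = Y := by
    refine le_antisymm ((largestOf_mono T hTM hMM₁ (cp_of_mem_charP hM₁c)).trans hYM₁.le) ?_
    have h := Cfsg.Agent.S2822.result T M M₁ hTM hTM₁ (cp_of_mem_charP hMc) (cp_of_mem_charP hM₁c)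
    rw [hYM₁] at h
    exact h (by rw [hMC, sup_eq_left.mpr le_sup_right])
  have hLM : ∀ x ∈ L, ∃ m ∈ M, m⁻¹ * x ∈ C₀ := by
    intro x hx
    obtain ⟨y, hy, hyx⟩ := hLX₀ x hx
    obtain ⟨m, hm, c, hc, rfl⟩ := exists_mul_of_mem_sup (hMY.trans (Coprime.le_normalizer_centralizer le_rfl))
      (hMC.ge (Subgroup.mem_sup_left hy) : y ∈ M ⊔ C)
    refine ⟨m, hm, ?_⟩
    rw [show m⁻¹ * x = c * ((m * c)⁻¹ * x) by group]
    exact C₀.mul_mem (hCC₀ hc) hyx
  have hkey : ∀ X ∈ Cfsg.charPSubgroups p G, M ≤ X → X ≤ M₁ := by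
    intro X hX hMX
    have hYX : Y ≤ Cfsg.largestPReducedOf p X := hYM ▸ largestOf_mono T hTM hMX (cp_of_mem_charP hX)
    have hLX : ∀ x ∈ L, ∃ m ∈ X, m⁻¹ * x ∈ C₀ := fun x hx =>
      let ⟨m, hm, hmx⟩ := hLM x hx
      ⟨m, hMX hm, hmx⟩
    obtain ⟨-, hcard⟩ := hwt X (hTM.trans hMX) hX hLX hYX
    have he : M₁ = X ⊔ C := Subgroup.eq_of_le_of_card_ge (hMC ▸ sup_le_sup_right hMX C) hcard
    exact le_sup_left.trans he.ge
  set D := M ⊓ C with hD
  haveI hDn : (D.subgroupOf M).Normal := (Subgroup.normal_subgroupOf_iff_le_normalizer inf_le_left).mpr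
    (Coprime.le_normalizer_inf_of_le Subgroup.le_normalizer (Coprime.le_normalizer_centralizer hMY))
  have hDidx : ¬ p ∣ (T₀.subgroupOf D).index := by
    intro hd
    have h1 := Transfer.relIndex_dvd_index_of_normal ((T.subtype hTM : Sylow p M) : Subgroup M) (D.subgroupOf M)
    rw [Sylow.coe_subtype, Subgroup.relIndex_subgroupOf inf_le_left] at h1
    refine (T.subtype hTM).not_dvd_index ?_
    rw [Sylow.coe_subtype]
    refine (hd.trans (dvd_of_eq ?_)).trans h1
    show _ = ((T : Subgroup G).subgroupOf D).index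
    congr 1
    ext w
    exact ⟨fun h => h.1, fun h => ⟨h, w.2.2⟩⟩
  have hclosed : Cfsg.IsPClosed p D := by
    let Q : Sylow p D := ((T.2.to_le inf_le_left : IsPGroup p T₀).comap_of_injective D.subtype
      D.subtype_injective).toSylow hDidx
    have hQn : (Q : Subgroup D).Normal := by
      refine ⟨fun x hx d => ?_⟩
      exact (Subgroup.mem_normalizer_iff.mp (hMT₀ d.2.1) (x : G)).mp hx
    intro R
    haveI := hQn
    obtain ⟨g, hg⟩ := MulAction.exists_smul_eq D Q R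
    rw [← hg, Sylow.smul_eq_of_normal]
    exact hQn
  have hfr : (D.subgroupOf M).map (QuotientGroup.mk' (Cfsg.pCore p M)) ≤ frattini (M ⧸ Cfsg.pCore p M) := by
    haveI := Fitting.pCore_normal (G := M) p
    set f := QuotientGroup.mk' (Cfsg.pCore p M) with hf
    have hfs : Function.Surjective f := QuotientGroup.mk'_surjective _
    refine le_iInf fun A => le_iInf fun hA => ?_
    rw [Subgroup.map_le_iff_le_comap]
    set X := A.comap f with hX
    have hXc : IsCoatom X := Subgroup.isCoatom_comap_of_surjective hfs hA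
    by_contra hnle
    have hsup : X ⊔ D.subgroupOf M = ⊤ := hXc.2 _ (left_lt_sup.mpr hnle)
    have hOX : Cfsg.pCore p M ≤ X := by
      rw [hX, ← Subgroup.map_le_iff_le_comap, hf, QuotientGroup.map_mk'_self]
      exact bot_le
    have hT₀X : T₀.subgroupOf M ≤ X := by
      refine le_trans (Fitting.le_pCore ?_ ((T.2.to_le inf_le_left : IsPGroup p T₀).comap_of_injective _
        M.subtype_injective)) hOX
      exact (Subgroup.normal_subgroupOf_iff_le_normalizer (inf_le_left.trans hTM)).mpr hMT₀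
    have hidx : ¬ p ∣ X.index := by
      have he : X.index = X.relIndex (D.subgroupOf M) := by
        have h1 := Coprime.card_sup_mul_card_inf (K := D.subgroupOf M) (S := X)
          Subgroup.le_normalizer_of_normal
        have h2 := Coprime.relIndex_mul_card_inf X (D.subgroupOf M)
        rw [sup_comm, hsup, Subgroup.card_top, ← X.card_mul_index, inf_comm] at h1
        refine Nat.eq_of_mul_eq_mul_right (Nat.card_pos : 0 < Nat.card ↥(X ⊓ D.subgroupOf M)) ?_
        rw [h2]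
        refine Nat.eq_of_mul_eq_mul_left (Nat.card_pos : 0 < Nat.card X) ?_
        rw [← mul_assoc, h1]
        ring
      rw [he]
      intro hd
      apply hDidx
      refine hd.trans ((Subgroup.relIndex_dvd_of_le_left _ hT₀X).trans (dvd_of_eq ?_))
      rw [Subgroup.relIndex_subgroupOf inf_le_left]
      rfl
    obtain ⟨R⟩ := (inferInstance : Nonempty (Sylow p X))
    have hR : ¬ p ∣ ((R : Subgroup X).map X.subtype).index := by
      rw [Subgroup.index_map_subtype]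
      exact fun hd => ((Fact.out : p.Prime).dvd_mul.mp hd).elim R.not_dvd_index hidx
    obtain ⟨m, hm⟩ := MulAction.exists_smul_eq M (T.subtype hTM) ((R.2.map X.subtype).toSylow hR)
    set X' := X.comap (MulAut.conj m).toMonoidHom with hX'
    set X'' := X'.map M.subtype with hX''
    have hTX'' : (T : Subgroup G) ≤ X'' := by
      intro t ht
      refine ⟨⟨t, hTM ht⟩, ?_, rfl⟩
      have h1 : m * (⟨t, hTM ht⟩ : M) * m⁻¹ ∈ ((m • T.subtype hTM : Sylow p M) : Subgroup M) :=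
        ⟨⟨t, hTM ht⟩, ht, rfl⟩
      rw [hm] at h1
      exact (Subgroup.map_subtype_le _ h1 : m * (⟨t, hTM ht⟩ : M) * m⁻¹ ∈ X)
    have hX'C : X'' ⊔ C = M₁ := by
      refine le_antisymm (sup_le ((Subgroup.map_subtype_le _).trans hMM₁) le_sup_right) ?_
      refine hMC.ge.trans (sup_le (fun w hw => ?_) le_sup_right)
      have h1 : m * (⟨w, hw⟩ : M) * m⁻¹ ∈ ((X ⊔ D.subgroupOf M : Subgroup M) : Set M) := by
        rw [hsup]; trivial
      rw [Subgroup.mul_normal] at h1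
      obtain ⟨x, hx, d, hd, hxd⟩ := h1
      simp only at hxd
      have h2 : (⟨w, hw⟩ : M) = (m⁻¹ * x * m) * (m⁻¹ * d * m) := by
        calc (⟨w, hw⟩ : M) = m⁻¹ * (m * ⟨w, hw⟩ * m⁻¹) * m := by group
          _ = (m⁻¹ * x * m) * (m⁻¹ * d * m) := by rw [← hxd]; group
      have h3 : ((m⁻¹ * x * m : M) : G) ∈ X'' := ⟨_, by
        show m * (m⁻¹ * x * m) * m⁻¹ ∈ X
        rw [show m * (m⁻¹ * x * m) * m⁻¹ = x by group]
        exact hx, rfl⟩
      have h4 : ((m⁻¹ * d * m : M) : G) ∈ C := by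
        have := hDn.conj_mem d hd m⁻¹
        rw [inv_inv] at this
        exact this.2
      rw [show w = ((m⁻¹ * x * m : M) : G) * ((m⁻¹ * d * m : M) : G) from congrArg Subtype.val h2]
      exact Subgroup.mul_mem _ (Subgroup.mem_sup_left h3) (Subgroup.mem_sup_right h4)
    have hlt : Nat.card X'' < Nat.card M := by
      rw [hX'', Subgroup.card_map_of_injective M.subtype_injective]
      refine lt_of_le_of_ne (Subgroup.card_le_card_group _) fun e => ?_
      refine (Subgroup.isCoatom_comap_of_surjective (φ := (MulAut.conj m).toMonoidHom)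
        (MulAut.conj m).surjective hXc).1 ?_
      exact Subgroup.eq_top_of_card_eq _ e
    exact absurd (hmin X'' (Finset.mem_filter.mpr ⟨Finset.mem_univ _, hTX'',
      (Subgroup.map_subtype_le _).trans hMN₁, hX'C⟩)) (not_le.mpr hlt)
  -- `L*`
  set W := M ⊓ (L ⊔ C₀) with hW
  have hTW : (T : Subgroup G) ≤ W := le_inf hTM (hTL.trans le_sup_left)
  have hWY : W ≤ Subgroup.normalizer (YL : Set G) :=
    inf_le_right.trans (sup_le (le_normalizer_largestOf p L) (Subgroup.centralizer_le_normalizer _))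
  have hYLT : YL ≤ (T : Subgroup G) := hYX₀.trans hYT
  have hWc : W ∈ Cfsg.charPSubgroups p G :=
    mem_charP_of_sylow hH T hTW (pCore_ne_bot_of_le T hTW hYLT hWY hYL1)
  have hWC : W ⊔ C₀ = L ⊔ C₀ := by
    refine le_antisymm (sup_le inf_le_right le_sup_right) (sup_le (fun x hx => ?_) le_sup_right)
    obtain ⟨m, hm, hmx⟩ := hLM x hx
    have hmL : m ∈ L ⊔ C₀ := by
      rw [show m = x * (m⁻¹ * x)⁻¹ by group]
      exact Subgroup.mul_mem _ (Subgroup.mem_sup_left hx) (Subgroup.mem_sup_right (C₀.inv_mem hmx))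
    rw [show x = m * (m⁻¹ * x) by group]
    exact Subgroup.mul_mem _ (Subgroup.mem_sup_left ⟨hm, hmL⟩) (Subgroup.mem_sup_right hmx)
  obtain ⟨hLsY, hLsC⟩ := Cfsg.Agent.S2824.result T L W hTL hTW hcL (cp_of_mem_charP hWc) _ rfl hWC _ rfl
  set Ls := W ⊓ Subgroup.normalizer (((T : Subgroup G) ⊓ C₀ : Subgroup G) : Set G) with hLs
  have hTLs : (T : Subgroup G) ≤ Ls := le_inf hTW
    (Coprime.le_normalizer_inf_of_le Subgroup.le_normalizer
      (Coprime.le_normalizer_centralizer (hTW.trans hWY)))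
  refine ⟨M, Ls, hTM, ⟨hMc, ?_, ?_, ?_, ?_, ?_⟩, hTLs, inf_le_left.trans inf_le_left,
    mem_charP_of_sylow hH T hTLs (pCore_ne_bot_of_le T hTLs hYLT (inf_le_left.trans hWY) hYL1),
    hLsY.symm, hYM ▸ hYX₀, hLsC⟩
  · rw [hYM, ← hC, hMC]
    exact ⟨hM₁c, fun X hX hle => le_antisymm (hkey X hX (hMM₁.trans hle)) hle⟩
  · rw [hYM, ← hC, hMC]
    intro X hX hMX
    exact (hX.2 M₁ hM₁c (hkey X hX.1 hMX)).symm
  · rw [hYM, ← hC, hMC, hYM₁]
  · rw [hYM, ← hC]; exact hclosed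
  · rw [hYM, ← hC]; exact hfr

end CfsgLib.PReduced
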